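import Groth.Prelude.Def_AlgSpInf
import Groth.Agent.Lib.Helper15.AlgSpLocP

set_option autoImplicit false
set_option linter.style.haveILetI false
universe u
open CategoryTheory CategoryTheory.Limits AlgebraicGeometry MorphismProperty
open AlgSp Groth.Agent.Helper15

namespace Groth.Agent.Helper19.ThickSp

variable {S : Scheme.{u}}

/-- the represented base change of a finite order thickening of sheaves along an étale chart is a
finite order thickening of schemes -/
theorem finiteOrder_snd {B B' : Sp S} (iB : B ⟶ B') (hT : IsThickMor iB) (n : ℕ)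
    (hn : AffLocT (powZero n) iB) {W' : Over S} (qW' : (yon S).obj W' ⟶ B')
    (hq : RepWith @Etale qW') :
    MoreMor.IsFiniteOrderThickening (hT.rep.snd qW').left := by
  have hthick : MoreMor.IsThickening (hT.rep.snd qW').left := hT.property_snd qW'
  refine ⟨hthick, n + 1, ?_⟩
  haveI : IsClosedImmersion (hT.rep.snd qW').left := hthick.1
  refine Scheme.IdealSheafData.ext_of_iSup_eq_top (fun O : W'.left.affineOpens =>
    (⟨O.1.ι ''ᵁ ⊤, (isAffineOpen_top O.1.toScheme).image_of_isOpenImmersion _⟩ :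
      W'.left.affineOpens)) (by
      simp only [Scheme.Opens.ι_image_top]
      exact iSup_affineOpens_eq_top _) ?_
  intro O
  -- the affine étale chart `O ⟶ W' ⟶ B'`
  let V : Over S := Over.mk (O.1.ι ≫ W'.hom)
  let jV : V ⟶ W' := Over.homMk O.1.ι rfl
  let Wp : Over S := hT.rep.pullback qW'
  let i : Wp ⟶ W' := hT.rep.snd qW'
  let W : Over S := Over.mk ((i.left ⁻¹ᵁ O.1).ι ≫ Wp.hom)
  let jW : W ⟶ Wp := Over.homMk (i.left ⁻¹ᵁ O.1).ι rfl
  let snd : W ⟶ V := Over.homMk (i.left ∣_ O.1) (by
    change (i.left ∣_ O.1) ≫ O.1.ι ≫ W'.hom = (i.left ⁻¹ᵁ O.1).ι ≫ Wp.hom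
    rw [← Category.assoc, morphismRestrict_ι, Category.assoc, Over.w i])
  have hVaff : IsAffine V.left := O.2
  have hjV : RepWith @Etale ((yon S).map jV) :=
    (repWith_yon_map_iff _ jV).2 (inferInstance : Etale O.1.ι)
  have hb : RepWith @Etale ((yon S).map jV ≫ qW') := (RepWith @Etale).comp_mem _ _ hjV hq
  have sq0 : IsPullback snd.left jW.left jV.left i.left := isPullback_morphismRestrict i.left O.1
  have sq1 : IsPullback jW snd i jV := by
    have : IsPullback ((Over.forget S).map jW) ((Over.forget S).map snd) ((Over.forget S).map i)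
        ((Over.forget S).map jV) := sq0.flip
    exact IsPullback.of_map (Over.forget S) (by
      apply (Over.forget S).map_injective
      rw [Functor.map_comp, Functor.map_comp]
      exact sq0.flip.w) this
  have sq2 := hT.rep.isPullback qW'
  have sq : IsPullback ((yon S).map jW ≫ hT.rep.fst qW') ((yon S).map snd) iB
      ((yon S).map jV ≫ qW') := (sq1.map (yon S)).paste_horiz sq2
  have hpow : (snd.left).ker ^ (n + 1) = ⊥ := hn _ _ snd hVaff hb sq
  have hpow' : ((i.left ∣_ O.1).ker ^ (n + 1)) = ⊥ := hpow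
  have h1 := Scheme.ker_morphismRestrict_ideal i.left O.1 ⟨⊤, isAffineOpen_top O.1.toScheme⟩
  have h3 : ((i.left ∣_ O.1).ker ^ (n + 1)).ideal ⟨⊤, isAffineOpen_top O.1.toScheme⟩ =
      (⊥ : O.1.toScheme.IdealSheafData).ideal ⟨⊤, isAffineOpen_top O.1.toScheme⟩ := by
    rw [hpow']
  rw [Scheme.IdealSheafData.ideal_pow] at h3
  have h4 : ((i.left ∣_ O.1).ker.ideal ⟨⊤, isAffineOpen_top O.1.toScheme⟩) ^ (n + 1) = ⊥ := h3
  rw [h1] at h4
  change (i.left.ker ^ (n + 1)).ideal _ = (⊥ : W'.left.IdealSheafData).ideal _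
  rw [Scheme.IdealSheafData.ideal_pow]
  exact h4

end Groth.Agent.Helper19.ThickSp
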