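import Groth.Agent.Lib.Helper19.ThickSp.Charts
import Groth.Agent.Lib.Helper19.RelDim.Sp
import Groth.Agent.Lib.Helper15.AlgSpLocPListed2
import Groth.Agent.Lib.Helper15.AlgSpUnram
import Groth.Agent.S1381
import Groth.Agent.S1312
import Groth.Agent.S1384
import Groth.Agent.S1314
import Groth.Agent.S1385

set_option autoImplicit false
set_option linter.style.haveILetI false
universe u
open CategoryTheory CategoryTheory.Limits AlgebraicGeometry MorphismProperty
open AlgSp Groth.Agent.Helper15 Groth.Agent.Helper16.AS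

namespace Groth.Agent.Helper19.ThickSp

variable {S : Scheme.{u}}

/-- `LocP P f` can be tested on one surjective chart, for the listed properties -/
theorem locP_iff_chart (P : MorphismProperty Scheme.{u})
    (hP : P = @LocallyOfFiniteType ∨ P = @LocallyOfFinitePresentation ∨ P = @Flat ∨ P = @Smooth ∨
      P = @Etale ∨
      (∀ ⦃A B : Scheme.{u}⦄ (g : A ⟶ B), P g ↔ (LocallyQuasiFinite g ∧ LocallyOfFiniteType g)) ∨
      (∀ ⦃A B : Scheme.{u}⦄ (g : A ⟶ B), P g ↔ (LocallyOfFiniteType g ∧ FormallyUnramified g)))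
    {X Y : Sp S} (hX : IsAlgSpace X) (hY : IsAlgSpace Y) (f : X ⟶ Y)
    {U V : Over S} (a : (yon S).obj U ⟶ X) (b : (yon S).obj V ⟶ Y) (h : U ⟶ V)
    (ha : RepWith @Etale a) (has : RepWith @Surjective a) (hb : RepWith @Etale b)
    (comm : a ≫ f = (yon S).map h ≫ b) : LocP P f ↔ P h.left :=
  ⟨fun hf => hf a b h ha hb comm,
    fun hh => locP_listed_of_one_chart P hP hX hY f a b h ha has hb comm hh⟩

/-- relative dimension `d` everywhere can be tested on a surjective chart -/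
theorem forall_hasAtMor_iff_chart {X Y : Sp S} (f : X ⟶ Y) (hf : LocP @LocallyOfFiniteType f)
    {U V : Over S} (a : (yon S).obj U ⟶ X) (b : (yon S).obj V ⟶ Y) (h : U ⟶ V)
    (ha : RepWith @Etale a) (has : RepWith @Surjective a) (hb : RepWith @Etale b)
    (comm : a ≫ f = (yon S).map h ≫ b) (d : WithBot ℕ∞) :
    (∀ x, HasAtMor (fun _ _ h u => FlatMor.fibreDimAt h u = d) f x) ↔
      ∀ u : U.left, FlatMor.fibreDimAt h.left u = d := by
  constructor
  · intro H u
    exact (Groth.Agent.Helper19.RelDim.hasAtMor_fibreDimAt_iff f hf (fun v => v = d) a b h ha hb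
      comm u).1 (H _)
  · intro H x
    obtain ⟨u, rfl⟩ := surjective_ofPt a has x
    exact (Groth.Agent.Helper19.RelDim.hasAtMor_fibreDimAt_iff f hf (fun v => v = d) a b h ha hb
      comm u).2 (H u)

/-- arbitrary thickening, `X'` flat and lfp over `B'`, `Y'` lft over `B'` -/
theorem thick_lfp_iff {X X' Y Y' B B' : Sp S} (hX : IsAlgSpace X) (hX' : IsAlgSpace X')
    (hY : IsAlgSpace Y) (hY' : IsAlgSpace Y') (hB' : IsAlgSpace B')
    (iX : X ⟶ X') (iY : Y ⟶ Y') (iB : B ⟶ B')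
    (f : X ⟶ Y) (f' : X' ⟶ Y') (g : Y ⟶ B) (g' : Y' ⟶ B')
    (hcX : IsPullback iX (f ≫ g) (f' ≫ g') iB) (hcY : IsPullback iY g g' iB)
    (w : iX ≫ f' = f ≫ iY) (hB : IsThickMor iB)
    (hg' : LocP @LocallyOfFiniteType g')
    (hflat : LocP @Flat (f' ≫ g')) (hfp : LocP @LocallyOfFinitePresentation (f' ≫ g')) (d : ℕ) :
    ((LocP @LocallyOfFiniteType f ∧
        ∀ x, HasAtMor (fun _ _ h u => FlatMor.fibreDimAt h u = (d : WithBot ℕ∞)) f x) ↔
      (LocP @LocallyOfFiniteType f' ∧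
        ∀ x', HasAtMor (fun _ _ h u => FlatMor.fibreDimAt h u = (d : WithBot ℕ∞)) f' x')) ∧
    (LocP @Flat f ↔ LocP @Flat f') ∧
    (LocP (@LocallyQuasiFinite ⊓ @LocallyOfFiniteType) f ↔
      LocP (@LocallyQuasiFinite ⊓ @LocallyOfFiniteType) f') ∧
    (LocP @Smooth f ↔ LocP @Smooth f') ∧
    (LocP (@LocallyOfFiniteType ⊓ @FormallyUnramified) f ↔
      LocP (@LocallyOfFiniteType ⊓ @FormallyUnramified) f') ∧
    (IsEtaleMor f ↔ IsEtaleMor f') := by
  obtain ⟨U, U', V, V', W, W', iU, iV, iW, h, h', k, k', qU, qU', qV, qV', qW', hqUe, hqUs, hqU'e,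
    hqU's, hqVe, hqVs, hqV'e, hqV's, hqWe, hc, hc', hcV', hiU, hiV, hQ, sqU, sqV, ws⟩ :=
    exists_charts hX' hY' hB' iX iY iB f f' g g' hcX hcY w hB
  have hS : MoreMor.IsThickening iW.left := hQ
  have hcUW : qU' ≫ f' ≫ g' = (yon S).map (h' ≫ k') ≫ qW' := by
    rw [← Category.assoc, hc', Category.assoc, hcV', Functor.map_comp, Category.assoc]
  haveI : Flat (h'.left ≫ k'.left) := hflat qU' qW' (h' ≫ k') hqU'e hqWe hcUW
  haveI : LocallyOfFinitePresentation (h'.left ≫ k'.left) :=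
    hfp qU' qW' (h' ≫ k') hqU'e hqWe hcUW
  haveI : LocallyOfFiniteType k'.left := hg' qV' qW' k' hqV'e hqWe hcV'
  haveI : LocallyOfFiniteType (h'.left ≫ k'.left) := inferInstance
  haveI hlft' : LocallyOfFiniteType h'.left := locallyOfFiniteType_of_comp h'.left k'.left
  have sqA : IsPullback iU.left h.left h'.left iV.left := IsPullback.of_bot sqU ws sqV
  haveI hlft : LocallyOfFiniteType h.left :=
    MorphismProperty.of_isPullback (P := @LocallyOfFiniteType) sqA hlft'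
  have hiVt : MoreMor.IsThickening iV.left :=
    MorphismProperty.of_isPullback (P := thick) sqV.flip hQ
  have hiUt : MoreMor.IsThickening iU.left :=
    MorphismProperty.of_isPullback (P := thick) sqU.flip hQ
  have hLf : LocP @LocallyOfFiniteType f :=
    (locP_iff_chart _ (Or.inl rfl) hX hY f qU qV h hqUe hqUs hqVe hc).2 hlft
  have hLf' : LocP @LocallyOfFiniteType f' :=
    (locP_iff_chart _ (Or.inl rfl) hX' hY' f' qU' qV' h' hqU'e hqU's hqV'e hc').2 hlft'
  refine ⟨?_, ?_, ?_, ?_, ?_, ?_⟩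
  · rw [forall_hasAtMor_iff_chart f hLf qU qV h hqUe hqUs hqVe hc,
      forall_hasAtMor_iff_chart f' hLf' qU' qV' h' hqU'e hqU's hqV'e hc']
    have hbc : ∀ u : U.left, FlatMor.fibreDimAt h.left u = FlatMor.fibreDimAt h'.left (iU.left u) :=
      fun u => Groth.Agent.Helper14.FibreDimBC.fibreDimAt_eq sqA u
    constructor
    · rintro ⟨-, H⟩
      refine ⟨hLf', fun u' => ?_⟩
      obtain ⟨u, rfl⟩ := hiUt.2.surj u'
      rw [← hbc]; exact H u
    · rintro ⟨-, H⟩
      exact ⟨hLf, fun u => by rw [hbc]; exact H _⟩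
  · rw [locP_iff_chart _ (Or.inr (Or.inr (Or.inl rfl))) hX hY f qU qV h hqUe hqUs hqVe hc,
      locP_iff_chart _ (Or.inr (Or.inr (Or.inl rfl))) hX' hY' f' qU' qV' h' hqU'e hqU's hqV'e hc']
    exact Groth.Agent.S1381.result iU.left iV.left iW.left h.left h'.left k.left k'.left hS sqU sqV ws
  · rw [locP_iff_chart (@LocallyQuasiFinite ⊓ @LocallyOfFiniteType)
        (Or.inr (Or.inr (Or.inr (Or.inr (Or.inr (Or.inl fun _ _ _ => Iff.rfl))))))
        hX hY f qU qV h hqUe hqUs hqVe hc,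
      locP_iff_chart (@LocallyQuasiFinite ⊓ @LocallyOfFiniteType)
        (Or.inr (Or.inr (Or.inr (Or.inr (Or.inr (Or.inl fun _ _ _ => Iff.rfl))))))
        hX' hY' f' qU' qV' h' hqU'e hqU's hqV'e hc']
    have := Groth.Agent.S1312.result iU.left iV.left h.left h'.left hiVt sqA
    exact ⟨fun hh => ⟨this.1 hh.1, hlft'⟩, fun hh => ⟨this.2 hh.1, hlft⟩⟩
  · rw [locP_iff_chart _ (Or.inr (Or.inr (Or.inr (Or.inl rfl)))) hX hY f qU qV h hqUe hqUs hqVe hc,
      locP_iff_chart _ (Or.inr (Or.inr (Or.inr (Or.inl rfl)))) hX' hY' f' qU' qV' h' hqU'e hqU's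
        hqV'e hc']
    exact Groth.Agent.S1384.result iU.left iV.left iW.left h.left h'.left k.left k'.left hS sqU sqV ws
  · rw [locP_iff_chart (@LocallyOfFiniteType ⊓ @FormallyUnramified)
        (Or.inr (Or.inr (Or.inr (Or.inr (Or.inr (Or.inr fun _ _ _ => Iff.rfl))))))
        hX hY f qU qV h hqUe hqUs hqVe hc,
      locP_iff_chart (@LocallyOfFiniteType ⊓ @FormallyUnramified)
        (Or.inr (Or.inr (Or.inr (Or.inr (Or.inr (Or.inr fun _ _ _ => Iff.rfl))))))
        hX' hY' f' qU' qV' h' hqU'e hqU's hqV'e hc']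
    have := Groth.Agent.S1314.result iU.left iV.left h.left h'.left hiVt sqA
    exact ⟨fun hh => ⟨hlft', this.1 hh.2⟩, fun hh => ⟨hlft, this.2 hh.2⟩⟩
  · have h1 : IsEtaleMor f ↔ LocP @Etale f :=
      ⟨locP_etale_of_isEtaleMor hY f, isEtaleMor_of_locP_etale hY f⟩
    have h2 : IsEtaleMor f' ↔ LocP @Etale f' :=
      ⟨locP_etale_of_isEtaleMor hY' f', isEtaleMor_of_locP_etale hY' f'⟩
    rw [h1, h2, locP_iff_chart _ (Or.inr (Or.inr (Or.inr (Or.inr (Or.inl rfl))))) hX hY f qU qV h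
        hqUe hqUs hqVe hc,
      locP_iff_chart _ (Or.inr (Or.inr (Or.inr (Or.inr (Or.inl rfl))))) hX' hY' f' qU' qV' h'
        hqU'e hqU's hqV'e hc']
    exact Groth.Agent.S1385.result iU.left iV.left iW.left h.left h'.left k.left k'.left hS sqU sqV ws

end Groth.Agent.Helper19.ThickSp
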