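import Groth.Agent.Lib.Helper19.ThickSp.LftSrc
import Groth.Agent.Lib.Helper19.ThickSp.FinOrder
import Groth.Agent.Lib.Helper19.ThickSp.Lfp

set_option autoImplicit false
set_option linter.style.haveILetI false
universe u
open CategoryTheory CategoryTheory.Limits AlgebraicGeometry MorphismProperty
open AlgSp Groth.Agent.Helper15 Groth.Agent.Helper16.AS

namespace Groth.Agent.Helper19.ThickSp

variable {S : Scheme.{u}}

/-- cartesian morphism of thickenings with `i` of finite order -/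
theorem thick_cart_iff {X X' Y Y' : Sp S} (hX : IsAlgSpace X) (hX' : IsAlgSpace X')
    (hY : IsAlgSpace Y) (hY' : IsAlgSpace Y') (i : X ⟶ X') (j : Y ⟶ Y')
    (f : X ⟶ Y) (f' : X' ⟶ Y') (hj : IsThickMor j)
    (hcart : IsPullback i f f' j) (hfo : IsFinThickMor i) (d : ℕ) :
    ((LocP @LocallyOfFiniteType f ∧
        ∀ x, HasAtMor (fun _ _ h u => FlatMor.fibreDimAt h u = (d : WithBot ℕ∞)) f x) ↔
      (LocP @LocallyOfFiniteType f' ∧
        ∀ x', HasAtMor (fun _ _ h u => FlatMor.fibreDimAt h u = (d : WithBot ℕ∞)) f' x')) ∧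
    (LocP @LocallyOfFiniteType f ↔ LocP @LocallyOfFiniteType f') ∧
    (LocP (@LocallyQuasiFinite ⊓ @LocallyOfFiniteType) f ↔
      LocP (@LocallyQuasiFinite ⊓ @LocallyOfFiniteType) f') ∧
    (LocP (@LocallyOfFiniteType ⊓ @FormallyUnramified) f ↔
      LocP (@LocallyOfFiniteType ⊓ @FormallyUnramified) f') := by
  obtain ⟨n, hT, hn⟩ := hfo
  obtain ⟨V', qV', hqV'e, hqV's⟩ := hY'.atlas
  obtain ⟨U', qU', h', hqU'e, hqU's, hc'⟩ := exists_chart_lift hX' f' qV' hqV'e hqV's
  -- base changes of the charts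
  have sqV := hj.rep.isPullback qV'
  have sqU := hT.rep.isPullback qU'
  have hqVe : RepWith @Etale (hj.rep.fst qV') := (RepWith @Etale).of_isPullback sqV.flip hqV'e
  have hqUe : RepWith @Etale (hT.rep.fst qU') := (RepWith @Etale).of_isPullback sqU.flip hqU'e
  have hqUs : RepWith @Surjective (hT.rep.fst qU') :=
    (RepWith @Surjective).of_isPullback sqU.flip hqU's
  have hcomm : (hT.rep.fst qU' ≫ f) ≫ j = (yon S).map (hT.rep.snd qU' ≫ h') ≫ qV' := by
    rw [Category.assoc, ← hcart.w, ← Category.assoc, sqU.w, Category.assoc, hc', Functor.map_comp,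
      Category.assoc]
  let h := hj.rep.lift (hT.rep.fst qU' ≫ f) (hT.rep.snd qU' ≫ h') hcomm
  have hh1 : (yon S).map h ≫ hj.rep.fst qV' = hT.rep.fst qU' ≫ f := hj.rep.lift_fst _ _ _
  have hh2 : h ≫ hj.rep.snd qV' = hT.rep.snd qU' ≫ h' := hj.rep.lift_snd _ _ _
  have hc : hT.rep.fst qU' ≫ f = (yon S).map h ≫ hj.rep.fst qV' := hh1.symm
  -- the scheme level cartesian square
  have big : IsPullback ((yon S).map (hT.rep.snd qU')) (hT.rep.fst qU' ≫ f) (qU' ≫ f') j :=
    sqU.flip.paste_vert hcart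
  have big' : IsPullback ((yon S).map (hT.rep.snd qU')) ((yon S).map h ≫ hj.rep.fst qV')
      ((yon S).map h' ≫ qV') j := by
    rw [hh1, ← hc']
    exact big
  have top : IsPullback ((yon S).map (hT.rep.snd qU')) ((yon S).map h) ((yon S).map h')
      ((yon S).map (hj.rep.snd qV')) := by
    refine IsPullback.of_bot big' ?_ sqV.flip
    rw [← Functor.map_comp, ← Functor.map_comp, hh2]
  have top' : IsPullback (hT.rep.snd qU') h h' (hj.rep.snd qV') :=
    IsPullback.of_map (yon S) hh2.symm top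
  have sqA : IsPullback (hT.rep.snd qU').left h.left h'.left (hj.rep.snd qV').left :=
    top'.map (Over.forget S)
  have hiVt : MoreMor.IsThickening (hj.rep.snd qV').left := hj.property_snd qV'
  have hiUf : MoreMor.IsFiniteOrderThickening (hT.rep.snd qU').left :=
    finiteOrder_snd i hT n hn qU' hqU'e
  have hlftiff : LocallyOfFiniteType h.left ↔ LocallyOfFiniteType h'.left :=
    ⟨fun hh => locallyOfFiniteType_of_finiteOrder_source hiVt hiUf sqA hh,
      fun hh => MorphismProperty.of_isPullback (P := @LocallyOfFiniteType) sqA hh⟩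
  have hL : LocP @LocallyOfFiniteType f ↔ LocallyOfFiniteType h.left :=
    locP_iff_chart _ (Or.inl rfl) hX hY f _ _ h hqUe hqUs hqVe hc
  have hL' : LocP @LocallyOfFiniteType f' ↔ LocallyOfFiniteType h'.left :=
    locP_iff_chart _ (Or.inl rfl) hX' hY' f' qU' qV' h' hqU'e hqU's hqV'e hc'
  refine ⟨?_, ?_, ?_, ?_⟩
  · constructor
    · rintro ⟨hLf, H⟩
      have hLf' : LocP @LocallyOfFiniteType f' := hL'.2 (hlftiff.1 (hL.1 hLf))
      haveI : LocallyOfFiniteType h'.left := hL'.1 hLf'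
      refine ⟨hLf', ?_⟩
      rw [forall_hasAtMor_iff_chart f hLf _ _ h hqUe hqUs hqVe hc] at H
      rw [forall_hasAtMor_iff_chart f' hLf' qU' qV' h' hqU'e hqU's hqV'e hc']
      intro u'
      obtain ⟨u, rfl⟩ := hiUf.1.2.surj u'
      rw [← Groth.Agent.Helper14.FibreDimBC.fibreDimAt_eq sqA u]
      exact H u
    · rintro ⟨hLf', H⟩
      have hLf : LocP @LocallyOfFiniteType f := hL.2 (hlftiff.2 (hL'.1 hLf'))
      haveI : LocallyOfFiniteType h'.left := hL'.1 hLf'
      refine ⟨hLf, ?_⟩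
      rw [forall_hasAtMor_iff_chart f' hLf' qU' qV' h' hqU'e hqU's hqV'e hc'] at H
      rw [forall_hasAtMor_iff_chart f hLf _ _ h hqUe hqUs hqVe hc]
      intro u
      rw [Groth.Agent.Helper14.FibreDimBC.fibreDimAt_eq sqA u]
      exact H _
  · rw [hL, hL']
    exact hlftiff
  · rw [locP_iff_chart (@LocallyQuasiFinite ⊓ @LocallyOfFiniteType)
        (Or.inr (Or.inr (Or.inr (Or.inr (Or.inr (Or.inl fun _ _ _ => Iff.rfl))))))
        hX hY f _ _ h hqUe hqUs hqVe hc,
      locP_iff_chart (@LocallyQuasiFinite ⊓ @LocallyOfFiniteType)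
        (Or.inr (Or.inr (Or.inr (Or.inr (Or.inr (Or.inl fun _ _ _ => Iff.rfl))))))
        hX' hY' f' qU' qV' h' hqU'e hqU's hqV'e hc']
    constructor
    · rintro ⟨h1, h2⟩
      haveI : LocallyOfFiniteType h.left := h2
      haveI : LocallyOfFiniteType h'.left := hlftiff.1 h2
      exact ⟨(Groth.Agent.S1312.result _ _ h.left h'.left hiVt sqA).1 h1, hlftiff.1 h2⟩
    · rintro ⟨h1, h2⟩
      haveI : LocallyOfFiniteType h'.left := h2
      haveI : LocallyOfFiniteType h.left := hlftiff.2 h2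
      exact ⟨(Groth.Agent.S1312.result _ _ h.left h'.left hiVt sqA).2 h1, hlftiff.2 h2⟩
  · rw [locP_iff_chart (@LocallyOfFiniteType ⊓ @FormallyUnramified)
        (Or.inr (Or.inr (Or.inr (Or.inr (Or.inr (Or.inr fun _ _ _ => Iff.rfl))))))
        hX hY f _ _ h hqUe hqUs hqVe hc,
      locP_iff_chart (@LocallyOfFiniteType ⊓ @FormallyUnramified)
        (Or.inr (Or.inr (Or.inr (Or.inr (Or.inr (Or.inr fun _ _ _ => Iff.rfl))))))
        hX' hY' f' qU' qV' h' hqU'e hqU's hqV'e hc']
    constructor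
    · rintro ⟨h1, h2⟩
      haveI : LocallyOfFiniteType h.left := h1
      haveI : LocallyOfFiniteType h'.left := hlftiff.1 h1
      exact ⟨hlftiff.1 h1, (Groth.Agent.S1314.result _ _ h.left h'.left hiVt sqA).1 h2⟩
    · rintro ⟨h1, h2⟩
      haveI : LocallyOfFiniteType h'.left := h1
      haveI : LocallyOfFiniteType h.left := hlftiff.2 h1
      exact ⟨hlftiff.2 h1, (Groth.Agent.S1314.result _ _ h.left h'.left hiVt sqA).2 h2⟩

end Groth.Agent.Helper19.ThickSp
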