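import Groth.Agent.Lib.Helper19.ThickSp.Charts

set_option autoImplicit false
set_option linter.style.haveILetI false
universe u
open CategoryTheory CategoryTheory.Limits AlgebraicGeometry MorphismProperty
open AlgSp Groth.Agent.Helper15 Groth.Agent.Helper16.AS

namespace Groth.Agent.Helper19.ThickSp

variable {S : Scheme.{u}}

/-- compatible scheme charts for `X ⟶ Y ⟶ B` and its "thick" version `X' ⟶ Y' ⟶ B'`, where the
former is the base change of the latter along a representable morphism `iB : B ⟶ B'` whose base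
changes to schemes have property `Q` -/
theorem exists_charts_over {Q : MorphismProperty Scheme.{u}} {X X' Y Y' B B' : Sp S}
    (hX' : IsAlgSpace X') (hY' : IsAlgSpace Y')
    (iX : X ⟶ X') (iY : Y ⟶ Y') (iB : B ⟶ B')
    (f : X ⟶ Y) (f' : X' ⟶ Y') (g : Y ⟶ B) (g' : Y' ⟶ B')
    (hcX : IsPullback iX (f ≫ g) (f' ≫ g') iB) (hcY : IsPullback iY g g' iB)
    (w : iX ≫ f' = f ≫ iY) (hB : RepWith Q iB) {W' : Over S} (qW' : (yon S).obj W' ⟶ B')
    (hqWe : RepWith @Etale qW') (hqWs : RepWith @Surjective qW') :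
    ∃ (U U' V V' : Over S) (iU : U ⟶ U') (iV : V ⟶ V') (h : U ⟶ V)
      (h' : U' ⟶ V') (k : V ⟶ hB.rep.pullback qW') (k' : V' ⟶ W') (qU : (yon S).obj U ⟶ X)
      (qU' : (yon S).obj U' ⟶ X') (qV : (yon S).obj V ⟶ Y) (qV' : (yon S).obj V' ⟶ Y'),
      RepWith @Etale qU ∧ RepWith @Surjective qU ∧ RepWith @Etale qU' ∧ RepWith @Surjective qU' ∧
      RepWith @Etale qV ∧ RepWith @Surjective qV ∧ RepWith @Etale qV' ∧ RepWith @Surjective qV' ∧
      qU ≫ f = (yon S).map h ≫ qV ∧ qU' ≫ f' = (yon S).map h' ≫ qV' ∧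
      qV' ≫ g' = (yon S).map k' ≫ qW' ∧
      qU ≫ iX = (yon S).map iU ≫ qU' ∧ qV ≫ iY = (yon S).map iV ≫ qV' ∧
      IsPullback iU.left (h.left ≫ k.left) (h'.left ≫ k'.left) (hB.rep.snd qW').left ∧
      IsPullback iV.left k.left k'.left (hB.rep.snd qW').left ∧
      iU.left ≫ h'.left = h.left ≫ iV.left := by
  obtain ⟨V', qV', k', hqVe, hqVs, hcV⟩ := exists_chart_lift hY' g' qW' hqWe hqWs
  obtain ⟨U', qU', h', hqUe, hqUs, hcU⟩ := exists_chart_lift hX' f' qV' hqVe hqVs
  have hcUW : qU' ≫ f' ≫ g' = (yon S).map (h' ≫ k') ≫ qW' := by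
    rw [← Category.assoc, hcU, Category.assoc, hcV, Functor.map_comp, Category.assoc]
  have hrep := hB.rep
  have sqW := hrep.isPullback qW'
  -- the canonical iso from the representing scheme to the sheaf pullback
  let rW' : (yon S).obj (hrep.pullback qW') ⟶ pullback iB qW' :=
    pullback.lift (hrep.fst qW') ((yon S).map (hrep.snd qW')) sqW.w
  have hr1 : rW' ≫ pullback.fst iB qW' = hrep.fst qW' := pullback.lift_fst _ _ _
  have hr2 : rW' ≫ pullback.snd iB qW' = (yon S).map (hrep.snd qW') := pullback.lift_snd _ _ _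
  haveI : IsIso rW' := by
    have e : rW' = (sqW.isoPullback).hom := by
      apply pullback.hom_ext
      · rw [hr1, IsPullback.isoPullback_hom_fst]
      · rw [hr2, IsPullback.isoPullback_hom_snd]
    rw [e]; infer_instance
  have hrWe : RepWith @Etale rW' := repWith_of_isIso _ rW'
  have hrWs : RepWith @Surjective rW' := repWith_of_isIso _ rW'
  have sqV := IsPullback.of_hasPullback k' (hrep.snd qW')
  have sqU := IsPullback.of_hasPullback (h' ≫ k') (hrep.snd qW')
  obtain ⟨qV, hqV1, hqV2, hqV'e, hqV's⟩ :=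
    Groth.Agent.Helper19.FibFlatLfp.exists_chart_baseChange iB qW' rW' hrWe hrWs
      (hrep.snd qW') hr2.symm hcY qV' k' hcV sqV
  obtain ⟨qU, hqU1, hqU2, hqU'e, hqU's⟩ :=
    Groth.Agent.Helper19.FibFlatLfp.exists_chart_baseChange iB qW' rW' hrWe hrWs
      (hrep.snd qW') hr2.symm hcX qU' (h' ≫ k') hcUW sqU
  let h : pullback (h' ≫ k') (hrep.snd qW') ⟶ pullback k' (hrep.snd qW') :=
    pullback.lift (pullback.fst _ _ ≫ h') (pullback.snd _ _)
      (by rw [Category.assoc, pullback.condition])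
  have hh1 : h ≫ pullback.fst k' (hrep.snd qW') = pullback.fst _ _ ≫ h' := pullback.lift_fst _ _ _
  have hh2 : h ≫ pullback.snd k' (hrep.snd qW') = pullback.snd _ _ := pullback.lift_snd _ _ _
  have hc : qU ≫ f = (yon S).map h ≫ qV := by
    apply hcY.hom_ext
    · rw [Category.assoc, ← w, ← Category.assoc, hqU1, Category.assoc, hcU, Category.assoc,
        hqV1, ← Category.assoc, ← Category.assoc, ← Functor.map_comp, ← Functor.map_comp, hh1]
    · rw [Category.assoc, hqU2, Category.assoc, hqV2, ← hh2, Functor.map_comp]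
      simp only [Category.assoc]
  have sqV' : IsPullback (pullback.fst k' (hrep.snd qW')).left
      (pullback.snd k' (hrep.snd qW')).left k'.left (hrep.snd qW').left :=
    sqV.map (Over.forget S)
  have sqU2 : IsPullback (pullback.fst (h' ≫ k') (hrep.snd qW'))
      (h ≫ pullback.snd k' (hrep.snd qW')) (h' ≫ k') (hrep.snd qW') := by
    rw [hh2]
    exact sqU
  have sqU' : IsPullback (pullback.fst (h' ≫ k') (hrep.snd qW')).left
      (h.left ≫ (pullback.snd k' (hrep.snd qW')).left) (h'.left ≫ k'.left)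
      (hrep.snd qW').left := sqU2.map (Over.forget S)
  have e' : (pullback.fst (h' ≫ k') (hrep.snd qW')).left ≫ h'.left =
      h.left ≫ (pullback.fst k' (hrep.snd qW')).left :=
    (congrArg (fun k => k.left) hh1).symm
  exact ⟨_, U', _, V', pullback.fst (h' ≫ k') (hrep.snd qW'),
    pullback.fst k' (hrep.snd qW'), h, h', pullback.snd k' (hrep.snd qW'), k',
    qU, qU', qV, qV', hqU'e hqUe, hqU's hqUs, hqUe, hqUs, hqV'e hqVe, hqV's hqVs, hqVe,
    hqVs, hc, hcU, hcV, hqU1, hqV1, sqU', sqV', e'⟩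

end Groth.Agent.Helper19.ThickSp
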