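import Groth.Agent.Lib.Helper19.ThickSp.Charts2
import Groth.Agent.Lib.Helper19.ThickSp.FinOrder
import Groth.Agent.Lib.Helper19.ThickSp.Lfp
import Groth.Agent.Lib.Helper19.ThickFin
import Groth.Agent.S1317
import Groth.Agent.S1309
import Groth.Agent.S1320
import Groth.Agent.S1321
import Groth.Agent.S1310
import Groth.Agent.S1322

set_option autoImplicit false
set_option linter.style.haveILetI false
universe u
open CategoryTheory CategoryTheory.Limits AlgebraicGeometry MorphismProperty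
open AlgSp Groth.Agent.Helper15 Groth.Agent.Helper16.AS

namespace Groth.Agent.Helper19.ThickSp

variable {S : Scheme.{u}}

/-- finite order thickening, `X'` flat over `B'` -/
theorem thick_fin_iff {X X' Y Y' B B' : Sp S} (hX : IsAlgSpace X) (hX' : IsAlgSpace X')
    (hY : IsAlgSpace Y) (hY' : IsAlgSpace Y') (hB' : IsAlgSpace B')
    (iX : X ⟶ X') (iY : Y ⟶ Y') (iB : B ⟶ B')
    (f : X ⟶ Y) (f' : X' ⟶ Y') (g : Y ⟶ B) (g' : Y' ⟶ B')
    (hcX : IsPullback iX (f ≫ g) (f' ≫ g') iB) (hcY : IsPullback iY g g' iB)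
    (w : iX ≫ f' = f ≫ iY) (hB : IsFinThickMor iB)
    (hflat : LocP @Flat (f' ≫ g')) (d : ℕ) :
    ((LocP @LocallyOfFiniteType f ∧
        ∀ x, HasAtMor (fun _ _ h u => FlatMor.fibreDimAt h u = (d : WithBot ℕ∞)) f x) ↔
      (LocP @LocallyOfFiniteType f' ∧
        ∀ x', HasAtMor (fun _ _ h u => FlatMor.fibreDimAt h u = (d : WithBot ℕ∞)) f' x')) ∧
    (LocP @Flat f ↔ LocP @Flat f') ∧
    (LocP @LocallyOfFiniteType f ↔ LocP @LocallyOfFiniteType f') ∧
    (LocP (@LocallyQuasiFinite ⊓ @LocallyOfFiniteType) f ↔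
      LocP (@LocallyQuasiFinite ⊓ @LocallyOfFiniteType) f') ∧
    (LocP @LocallyOfFinitePresentation f ↔ LocP @LocallyOfFinitePresentation f') ∧
    (LocP @Smooth f ↔ LocP @Smooth f') ∧
    (LocP (@LocallyOfFiniteType ⊓ @FormallyUnramified) f ↔
      LocP (@LocallyOfFiniteType ⊓ @FormallyUnramified) f') ∧
    (IsEtaleMor f ↔ IsEtaleMor f') := by
  obtain ⟨n, hT, hn⟩ := hB
  obtain ⟨W', qW', hqWe, hqWs⟩ := hB'.atlas
  obtain ⟨U, U', V, V', iU, iV, h, h', k, k', qU, qU', qV, qV', hqUe, hqUs, hqU'e,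
    hqU's, hqVe, hqVs, hqV'e, hqV's, hc, hc', hcV', hiU, hiV, sqU, sqV, ws⟩ :=
    exists_charts_over hX' hY' iX iY iB f f' g g' hcX hcY w hT qW' hqWe hqWs
  have hS : MoreMor.IsFiniteOrderThickening (hT.rep.snd qW').left :=
    finiteOrder_snd iB hT n hn qW' hqWe
  have hcUW : qU' ≫ f' ≫ g' = (yon S).map (h' ≫ k') ≫ qW' := by
    rw [← Category.assoc, hc', Category.assoc, hcV', Functor.map_comp, Category.assoc]
  haveI : Flat (h'.left ≫ k'.left) := hflat qU' qW' (h' ≫ k') hqU'e hqWe hcUW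
  have sqA : IsPullback iU.left h.left h'.left iV.left := IsPullback.of_bot sqU ws sqV
  have hiVf : MoreMor.IsFiniteOrderThickening iV.left :=
    Groth.Agent.Lib.Helper19.ThickFin.finiteOrder_of_isPullback hS sqV
  have hiUf : MoreMor.IsFiniteOrderThickening iU.left :=
    Groth.Agent.Lib.Helper19.ThickFin.finiteOrder_of_isPullback hiVf sqA
  have hlftiff : LocallyOfFiniteType h.left ↔ LocallyOfFiniteType h'.left :=
    Groth.Agent.S1309.result iU.left iV.left h.left h'.left hiVf sqA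
  have hL : LocP @LocallyOfFiniteType f ↔ LocallyOfFiniteType h.left :=
    locP_iff_chart _ (Or.inl rfl) hX hY f qU qV h hqUe hqUs hqVe hc
  have hL' : LocP @LocallyOfFiniteType f' ↔ LocallyOfFiniteType h'.left :=
    locP_iff_chart _ (Or.inl rfl) hX' hY' f' qU' qV' h' hqU'e hqU's hqV'e hc'
  refine ⟨?_, ?_, ?_, ?_, ?_, ?_, ?_, ?_⟩
  · constructor
    · rintro ⟨hLf, H⟩
      have hLf' : LocP @LocallyOfFiniteType f' := hL'.2 (hlftiff.1 (hL.1 hLf))
      haveI : LocallyOfFiniteType h'.left := hL'.1 hLf'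
      refine ⟨hLf', ?_⟩
      rw [forall_hasAtMor_iff_chart f hLf qU qV h hqUe hqUs hqVe hc] at H
      rw [forall_hasAtMor_iff_chart f' hLf' qU' qV' h' hqU'e hqU's hqV'e hc']
      intro u'
      obtain ⟨u, rfl⟩ := hiUf.1.2.surj u'
      rw [← Groth.Agent.Helper14.FibreDimBC.fibreDimAt_eq sqA u]
      exact H u
    · rintro ⟨hLf', H⟩
      have hLf : LocP @LocallyOfFiniteType f := hL.2 (hlftiff.2 (hL'.1 hLf'))
      haveI : LocallyOfFiniteType h'.left := hL'.1 hLf'
      refine ⟨hLf, ?_⟩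
      rw [forall_hasAtMor_iff_chart f' hLf' qU' qV' h' hqU'e hqU's hqV'e hc'] at H
      rw [forall_hasAtMor_iff_chart f hLf qU qV h hqUe hqUs hqVe hc]
      intro u
      rw [Groth.Agent.Helper14.FibreDimBC.fibreDimAt_eq sqA u]
      exact H _
  · rw [locP_iff_chart _ (Or.inr (Or.inr (Or.inl rfl))) hX hY f qU qV h hqUe hqUs hqVe hc,
      locP_iff_chart _ (Or.inr (Or.inr (Or.inl rfl))) hX' hY' f' qU' qV' h' hqU'e hqU's hqV'e hc']
    exact Groth.Agent.S1317.result iU.left iV.left (hT.rep.snd qW').left h.left h'.left k.left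
      k'.left hS sqU sqV ws
  · rw [hL, hL']
    exact hlftiff
  · rw [locP_iff_chart (@LocallyQuasiFinite ⊓ @LocallyOfFiniteType)
        (Or.inr (Or.inr (Or.inr (Or.inr (Or.inr (Or.inl fun _ _ _ => Iff.rfl))))))
        hX hY f qU qV h hqUe hqUs hqVe hc,
      locP_iff_chart (@LocallyQuasiFinite ⊓ @LocallyOfFiniteType)
        (Or.inr (Or.inr (Or.inr (Or.inr (Or.inr (Or.inl fun _ _ _ => Iff.rfl))))))
        hX' hY' f' qU' qV' h' hqU'e hqU's hqV'e hc']
    constructor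
    · rintro ⟨h1, h2⟩
      haveI : LocallyOfFiniteType h.left := h2
      haveI : LocallyOfFiniteType h'.left := hlftiff.1 h2
      exact ⟨(Groth.Agent.S1312.result iU.left iV.left h.left h'.left hiVf.1 sqA).1 h1,
        hlftiff.1 h2⟩
    · rintro ⟨h1, h2⟩
      haveI : LocallyOfFiniteType h'.left := h2
      haveI : LocallyOfFiniteType h.left := hlftiff.2 h2
      exact ⟨(Groth.Agent.S1312.result iU.left iV.left h.left h'.left hiVf.1 sqA).2 h1,
        hlftiff.2 h2⟩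
  · rw [locP_iff_chart _ (Or.inr (Or.inl rfl)) hX hY f qU qV h hqUe hqUs hqVe hc,
      locP_iff_chart _ (Or.inr (Or.inl rfl)) hX' hY' f' qU' qV' h' hqU'e hqU's hqV'e hc']
    exact Groth.Agent.S1320.result iU.left iV.left (hT.rep.snd qW').left h.left h'.left k.left
      k'.left hS sqU sqV ws
  · rw [locP_iff_chart _ (Or.inr (Or.inr (Or.inr (Or.inl rfl)))) hX hY f qU qV h hqUe hqUs hqVe hc,
      locP_iff_chart _ (Or.inr (Or.inr (Or.inr (Or.inl rfl)))) hX' hY' f' qU' qV' h' hqU'e hqU's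
        hqV'e hc']
    exact Groth.Agent.S1321.result iU.left iV.left (hT.rep.snd qW').left h.left h'.left k.left
      k'.left hS sqU sqV ws
  · rw [locP_iff_chart (@LocallyOfFiniteType ⊓ @FormallyUnramified)
        (Or.inr (Or.inr (Or.inr (Or.inr (Or.inr (Or.inr fun _ _ _ => Iff.rfl))))))
        hX hY f qU qV h hqUe hqUs hqVe hc,
      locP_iff_chart (@LocallyOfFiniteType ⊓ @FormallyUnramified)
        (Or.inr (Or.inr (Or.inr (Or.inr (Or.inr (Or.inr fun _ _ _ => Iff.rfl))))))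
        hX' hY' f' qU' qV' h' hqU'e hqU's hqV'e hc']
    have hu := Groth.Agent.S1310.result iU.left iV.left h.left h'.left hiVf sqA
    exact ⟨fun hh => ⟨hlftiff.1 hh.1, hu.1 hh.2⟩, fun hh => ⟨hlftiff.2 hh.1, hu.2 hh.2⟩⟩
  · have h1 : IsEtaleMor f ↔ LocP @Etale f :=
      ⟨locP_etale_of_isEtaleMor hY f, isEtaleMor_of_locP_etale hY f⟩
    have h2 : IsEtaleMor f' ↔ LocP @Etale f' :=
      ⟨locP_etale_of_isEtaleMor hY' f', isEtaleMor_of_locP_etale hY' f'⟩
    rw [h1, h2, locP_iff_chart _ (Or.inr (Or.inr (Or.inr (Or.inr (Or.inl rfl))))) hX hY f qU qV h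
        hqUe hqUs hqVe hc,
      locP_iff_chart _ (Or.inr (Or.inr (Or.inr (Or.inr (Or.inl rfl))))) hX' hY' f' qU' qV' h'
        hqU'e hqU's hqV'e hc']
    exact Groth.Agent.S1322.result iU.left iV.left (hT.rep.snd qW').left h.left h'.left k.left
      k'.left hS sqU sqV ws

end Groth.Agent.Helper19.ThickSp
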